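import Cfsg.Agent.Lib.Co2Mult.Packed
import Cfsg.Agent.Lib.Schur.PcCollect
import Cfsg.Prelude.Def_Spor_Conway

/-!
# Certificates for the multiplier of the second Conway group

Elements of the stabiliser of a norm 32 vector are words in permutations, sign changes and sextet maps; they are
compared on the frame vectors, and an element is outside a group when it moves a tuple out of its orbit.
-/

set_option autoImplicit false

namespace Cfsg.Agent.Lib.Co2Mult

open Cfsg Cfsg.Agent.Lib.Leech Cfsg.Agent.Lib.Golay
open Cfsg.Agent.Lib.Co3Model (Op lv appWord wordElt lv_word lv_injective lv_eq_map)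
open Cfsg.Agent.Lib.Schur
open Cfsg.Agent.Lib.Schur.PcCollect (Data Equat Vec)

/-- The stabiliser of the vector in the lattice group. -/
abbrev St : Subgroup Co0 := MulAction.stabilizer Co0 Spor.leechU

/-- The second Conway group as a point stabiliser. -/
def co2Equiv : ↥Spor.Co2 ≃* St where
  toFun g := ⟨⟨g.1, g.2.1⟩, g.2.2⟩
  invFun g := ⟨g.1.1, g.1.2, g.2⟩
  left_inv _ := rfl
  right_inv _ := rfl
  map_mul' _ _ := rfl

theorem sqNorm_U : sqNorm (vec Spor.leechU) = 32 := by decide +kernel

theorem card_St : Nat.card St = 42305421312000 := card_stab32 sqNorm_U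

/-- The coordinates of the vector. -/
def uList : List ℤ := (List.range 24).map fun i => if i = 0 ∨ i = 23 then 4 else 0

theorem lv_U : lv Spor.leechU = uList := by decide +kernel

theorem fits_U : Fits uList := fits_of_fitsB (by decide +kernel)

/-- A frame vector. -/
def frame (c : ℕ) : List ℤ := (List.range 24).map fun i => if i = c then 8 else 0

theorem fits_frame {c : ℕ} (hc : c < 24) : Fits (frame c) :=
  fits_of_fitsB (List.all_eq_true.1
    (by decide +kernel : ((List.range 24).all fun c => fitsB (frame c)) = true) c (List.mem_range.2 hc))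

theorem lv_eightE {i : ℕ} (hi : i < 24) : lv (eightE (pt i)) = frame i := by
  refine lv_eq_map fun j hj => ?_
  show (Pi.single (pt i) (8 : ℤ) : GolayPt → ℤ) (pt j) = _
  split_ifs with h
  · rw [h, Pi.single_eq_same]
  · rw [Pi.single_eq_of_ne]
    exact fun he => h (by rw [← idx_pt hj, he, idx_pt hi])

/-- Words fixing the vector. -/
def good (w : List Op) : Bool :=
  w.all Op.ok && match runP w (enc uList) with
    | some b => Nat.beq b (enc uList)
    | none => false

theorem good_spec {w : List Op} (h : good w = true) : w.all Op.ok = true ∧ appWord w uList = uList := by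
  rw [good, Bool.and_eq_true] at h
  refine ⟨h.1, ?_⟩
  cases hr : runP w (enc uList) with
  | none => rw [hr] at h; exact absurd h.2 (by simp)
  | some b =>
    rw [hr] at h
    obtain ⟨h1, h2⟩ := runP_spec h.1 fits_U hr
    exact enc_inj h1 fits_U (h2.symm.trans (Nat.eq_of_beq_eq_true h.2))

/-- The element of a word. -/
noncomputable def ofWord (w : List Op) : St :=
  if h : good w = true then ⟨wordElt w, MulAction.mem_stabilizer_iff.2 (lv_injective (by
    rw [lv_word (good_spec h).1, lv_U, (good_spec h).2]))⟩
  else 1

theorem coe_ofWord {w : List Op} (h : good w = true) : (ofWord w : Co0) = wordElt w := by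
  rw [ofWord, dif_pos h]

/-- Equality of the action on the frame. -/
def sameAct (w w' : List Op) : Bool :=
  (List.range 24).all fun i =>
    match runP w (enc (frame i)), runP w' (enc (frame i)) with
    | some a, some b => Nat.beq a b
    | _, _ => false

theorem wordElt_eq {w w' : List Op} (h : w.all Op.ok = true) (h' : w'.all Op.ok = true)
    (hs : sameAct w w' = true) : wordElt w = wordElt w' := by
  refine co0_ext fun p => lv_injective ?_
  rw [← pt_idx p, lv_word h, lv_word h', lv_eightE (idx_lt p)]
  simp only [sameAct, List.all_eq_true, List.mem_range] at hs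
  have hp := hs _ (idx_lt p)
  cases hr : runP w (enc (frame (idx p))) with
  | none => rw [hr] at hp; simp at hp
  | some a =>
    cases hr' : runP w' (enc (frame (idx p))) with
    | none => rw [hr, hr'] at hp; simp at hp
    | some b =>
      rw [hr, hr'] at hp
      obtain ⟨h1, h2⟩ := runP_spec h (fits_frame (idx_lt p)) hr
      obtain ⟨h3, h4⟩ := runP_spec h' (fits_frame (idx_lt p)) hr'
      exact enc_inj h1 h3 (by rw [← h2, ← h4]; exact Nat.eq_of_beq_eq_true hp)

theorem wordElt_append (a b : List Op) : wordElt (a ++ b) = wordElt a * wordElt b := by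
  simp [wordElt]

/-- The generators of a certificate. -/
noncomputable def gen (gens : List (List Op)) (i : ℕ) : St := ofWord (gens.getD i [])

/-- The word of a word in the generators. -/
def flat (gens : List (List Op)) (l : List ℕ) : List Op := l.flatMap fun i => gens.getD i []

theorem good_getD {gens : List (List Op)} (hg : gens.all good = true) (i : ℕ) :
    good (gens.getD i []) = true := by
  by_cases hi : i < gens.length
  · rw [List.getD_eq_getElem _ _ hi]
    exact List.all_eq_true.1 hg _ (List.getElem_mem hi)
  · rw [List.getD_eq_default _ _ (by omega)]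
    decide +kernel

theorem el_gen {gens : List (List Op)} (hg : gens.all good = true) : ∀ l : List ℕ,
    ((Data.el (gen gens) l : St) : Co0) = wordElt (flat gens l) ∧ (flat gens l).all Op.ok = true
  | [] => ⟨rfl, rfl⟩
  | i :: l => by
    obtain ⟨h1, h2⟩ := el_gen hg l
    have hi := good_getD hg i
    refine ⟨?_, ?_⟩
    · rw [Data.el_cons, Subgroup.coe_mul, h1, gen, coe_ofWord hi, ← wordElt_append]
      rfl
    · show (gens.getD i [] ++ flat gens l).all Op.ok = true
      rw [List.all_append, (good_spec hi).1, h2]
      rfl

/-- The relations hold. -/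
def relsOk (D : Data) (gens : List (List Op)) : Bool :=
  (List.range D.n).all fun i => (List.range (i + 1)).all fun j =>
    sameAct (flat gens (D.lhs i j)) (flat gens (D.rhs i j))

/-- The conjugations hold. -/
def conjsOk (D : Data) (gens xs : List (List Op)) : Bool :=
  Nat.beq xs.length D.conjs.length && xs.all good &&
    (List.range D.conjs.length).all fun c =>
      let uv := D.conjs.getD c ([], [])
      let x := xs.getD c []
      (List.range uv.1.length).all fun k =>
        sameAct (x ++ flat gens (uv.1.getD k [])) (flat gens (uv.2.getD k []) ++ x)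

/-- The image of a code. -/
def img (w : List Op) (a : ℕ) : ℕ := (runP w a).getD 0

/-- Each generator moves a tuple out of its orbit under the later ones. -/
def sepOk (D : Data) (gens : List (List Op)) (sep : List (List ℕ × List (List ℕ))) : Bool :=
  (List.range D.n).all fun j =>
    let d := sep.getD j ([], [])
    (d.1.all fun c => Nat.blt c 24 && (runP (gens.getD j []) (enc (frame c))).isSome) &&
      (d.2.contains (d.1.map fun c => enc (frame c))) &&
      !(d.2.contains (d.1.map fun c => img (gens.getD j []) (enc (frame c)))) &&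
      (List.range D.n).all fun l => !Nat.blt j l ||
        d.2.all fun t => (t.all fun a => (runP (gens.getD l []) a).isSome) &&
          d.2.contains (t.map fun a => img (gens.getD l []) a)

section Strict

attribute [local irreducible] enc Fits appWord frame

theorem strict_of_sepOk {D : Data} {gens : List (List Op)} {sep : List (List ℕ × List (List ℕ))}
    (hg : gens.all good = true) (h : sepOk D gens sep = true) :
    ∀ j < D.n, gen gens j ∉ Subgroup.closure (gen gens '' {l | j < l ∧ l < D.n}) := by
  intro j hj hmem
  simp only [sepOk, List.all_eq_true, List.mem_range, Bool.and_eq_true, Bool.or_eq_true,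
    Bool.not_eq_true', List.contains_iff_mem, Nat.blt_eq] at h
  obtain ⟨⟨⟨hlt, hin⟩, hout⟩, hinv⟩ := h j hj
  generalize sep.getD j ([], []) = d at hlt hin hout hinv
  have happ : ∀ (l : ℕ) (v : leechLattice), Fits (lv v) →
      (runP (gens.getD l []) (enc (lv v))).isSome = true →
      Fits (lv ((gen gens l : Co0) • v)) ∧
        enc (lv ((gen gens l : Co0) • v)) = img (gens.getD l []) (enc (lv v)) := by
    intro l v hv hs
    have hl := good_getD hg l
    obtain ⟨b, hb⟩ := Option.isSome_iff_exists.1 hs
    rw [gen, coe_ofWord hl, lv_word (good_spec hl).1]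
    obtain ⟨h1, h2⟩ := runP_spec (good_spec hl).1 hv hb
    refine ⟨h1, ?_⟩
    rw [img, hb, Option.getD_some, h2]
  let Q : List leechLattice → Prop := fun T =>
    (∀ v ∈ T, Fits (lv v)) ∧ (T.map fun v => enc (lv v)) ∈ d.2
  have hQ : ∀ x ∈ Subgroup.closure (gen gens '' {l | j < l ∧ l < D.n}), ∀ T, Q T →
      Q (T.map fun v => (x : Co0) • v) := by
    intro x hx
    have hx' : x ∈ Submonoid.closure (gen gens '' {l | j < l ∧ l < D.n}) := by
      haveI : Finite St := Nat.finite_of_card_ne_zero (by rw [card_St]; norm_num)
      rw [← Subgroup.closure_toSubmonoid_of_finite]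
      exact hx
    induction hx' using Submonoid.closure_induction with
    | mem y hy =>
      obtain ⟨l, ⟨hjl, hl⟩, rfl⟩ := hy
      intro T hT
      obtain ⟨hsome, hin'⟩ := (hinv l hl).resolve_left (fun hn => absurd hjl (by
        intro hh; rw [← Bool.not_eq_true, Nat.blt_eq] at hn; exact hn hh)) _ hT.2
      have hv : ∀ v ∈ T, _ := fun v hv => happ l v (hT.1 v hv) (hsome _ (List.mem_map.2 ⟨v, hv, rfl⟩))
      refine ⟨fun w hw => ?_, ?_⟩
      · obtain ⟨v, hvT, rfl⟩ := List.mem_map.1 hw
        exact (hv v hvT).1
      · rw [List.map_map] at hin' ⊢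
        rwa [List.map_congr_left (l := T)
          (f := (fun v => enc (lv v)) ∘ fun v => (gen gens l : Co0) • v) fun v hvT => (hv v hvT).2]
    | one => intro T hT; simpa using hT
    | mul a b _ _ ha hb =>
      intro T hT
      have h1 := ha (hx := Subgroup.le_closure_toSubmonoid _ (by assumption)) _
        (hb (hx := Subgroup.le_closure_toSubmonoid _ (by assumption)) T hT)
      rw [List.map_map] at h1
      simpa [Function.comp_def, mul_smul] using h1
  have hbase : Q (d.1.map fun c => eightE (pt c)) := by
    refine ⟨fun w hw => ?_, ?_⟩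
    · obtain ⟨c, hc, rfl⟩ := List.mem_map.1 hw
      rw [lv_eightE (hlt c hc).1]
      exact fits_frame (hlt c hc).1
    · rw [List.map_map, List.map_congr_left (g := fun c => enc (frame c)) fun c hc => by
        rw [Function.comp_apply, lv_eightE (hlt c hc).1]]
      exact hin
  have h2 := (hQ _ hmem _ hbase).2
  rw [List.map_map, List.map_map, List.map_congr_left
    (g := fun c => img (gens.getD j []) (enc (frame c))) fun c hc => ?_] at h2
  · rw [← List.contains_iff_mem] at h2
    exact Bool.false_ne_true (hout.symm.trans h2)
  · obtain ⟨hc1, hc2⟩ := hlt c hc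
    simp only [Function.comp_apply]
    rw [(happ j _ (by rw [lv_eightE hc1]; exact fits_frame hc1) (by rw [lv_eightE hc1]; exact hc2)).2,
      lv_eightE hc1]

end Strict

/-- An element of order `q` given by a word. -/
def cycOk (q : ℕ) (w : List Op) : Bool :=
  good w && sameAct (List.replicate q w).flatten [] &&
    (List.range 24).any fun i => match runP w (enc (frame i)) with
      | some b => !Nat.beq b (enc (frame i))
      | none => false

theorem wordElt_replicate (w : List Op) : ∀ q, wordElt (List.replicate q w).flatten = wordElt w ^ q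
  | 0 => by simp [wordElt]
  | q + 1 => by
    rw [List.replicate_succ, List.flatten_cons, wordElt_append, wordElt_replicate w q, pow_succ']

theorem exists_cyclic {q : ℕ} (hq : q.Prime) {w : List Op} (h : cycOk q w = true)
    (hidx : ¬ q ^ 2 ∣ 42305421312000) : ∃ P : Subgroup St, ¬ q ∣ P.index ∧ Fusion.KillsPart q P := by
  simp only [cycOk, Bool.and_eq_true, List.any_eq_true, List.mem_range] at h
  obtain ⟨⟨hg, hpow⟩, i, hi, hne⟩ := h
  have hok := (good_spec hg).1
  refine ⟨Subgroup.zpowers (ofWord w), fun hd => hidx ?_, Fusion.killsPart_zpowers q _⟩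
  have : Fact q.Prime := ⟨hq⟩
  have hord : orderOf (ofWord w) = q := by
    refine orderOf_eq_prime (Subtype.ext ?_) fun h1 => ?_
    · rw [SubmonoidClass.coe_pow, coe_ofWord hg, ← wordElt_replicate]
      exact (wordElt_eq (by simp [List.all_flatten, hok]) rfl hpow).trans rfl
    · have h2 : wordElt w = 1 := by rw [← coe_ofWord hg, h1]; rfl
      cases hr : runP w (enc (frame i)) with
      | none => rw [hr] at hne; simp at hne
      | some b =>
        rw [hr] at hne
        obtain ⟨-, hb⟩ := runP_spec hok (fits_frame hi) hr
        have he : appWord w (frame i) = frame i := by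
          rw [← lv_eightE hi, ← lv_word hok, h2, one_smul]
        rw [hb, he] at hne
        simp [Nat.beq_eq] at hne
  rw [← card_St, ← (Subgroup.zpowers (ofWord w)).card_mul_index, Nat.card_zpowers, hord, pow_two]
  exact Nat.mul_dvd_mul_left q hd

/-- Data passing the checks kills the `p`-part. -/
theorem exists_part (D : Data) (hp : D.p.Prime) {α : Type} [BEq α] [LawfulBEq α] (V : Vec D.p α)
    (gens xs : List (List Op)) (sep : List (List ℕ × List (List ℕ))) {eqs : List (Equat × α)}
    {combos : List (List ℕ)} (hcert : D.certOk V eqs combos = true) (hg : gens.all good = true)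
    (hrels : relsOk D gens = true) (hsep : sepOk D gens sep = true) (hconjs : conjsOk D gens xs = true)
    (hidx : ¬ D.p ^ (D.n + 1) ∣ 42305421312000) :
    ∃ P : Subgroup St, ¬ D.p ∣ P.index ∧ Fusion.KillsPart D.p P := by
  haveI : Finite St := Nat.finite_of_card_ne_zero (by rw [card_St]; norm_num)
  have hW : ∀ i < D.n, ∀ j ≤ i, ∀ l ∈ D.word i j, j < l ∧ l < D.n := by
    intro i hi j hj l hl
    have h := hcert
    simp only [Data.certOk, Bool.and_eq_true, List.all_eq_true, List.mem_range, Nat.blt_eq] at h
    exact h.1.1 i hi j (by omega) l hl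
  have hrel : ∀ i < D.n, ∀ j ≤ i, Data.el (gen gens) (D.lhs i j) = Data.el (gen gens) (D.rhs i j) := by
    intro i hi j hj
    simp only [relsOk, List.all_eq_true, List.mem_range] at hrels
    obtain ⟨h1, o1⟩ := el_gen hg (D.lhs i j)
    obtain ⟨h2, o2⟩ := el_gen hg (D.rhs i j)
    exact Subtype.ext (by rw [h1, h2, wordElt_eq o1 o2 (hrels i hi j (by omega))])
  have hstrict := strict_of_sepOk hg hsep
  refine ⟨Subgroup.closure (gen gens '' {l | l < D.n}), fun hd => hidx ?_,
    PcCollect.killsPart_of_cert _ D hp V (gen gens) hcert hrel hstrict ?_ (by rwa [card_St])⟩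
  · rw [← card_St, ← (Subgroup.closure (gen gens '' {l | l < D.n})).card_mul_index,
      PcCollect.card_series D hp _ hW hrel hstrict, pow_succ]
    exact Nat.mul_dvd_mul_left _ hd
  · intro uv huv
    obtain ⟨c, hc, rfl⟩ := List.getElem_of_mem huv
    simp only [conjsOk, Bool.and_eq_true, Nat.beq_eq, List.all_eq_true, List.mem_range] at hconjs
    obtain ⟨⟨hlen, hxg⟩, hall⟩ := hconjs
    have hxg' : good (xs.getD c []) = true := good_getD (List.all_eq_true.2 hxg) c
    refine ⟨ofWord (xs.getD c []), fun k hk => ?_⟩
    have h := hall c hc k (by rwa [List.getD_eq_getElem _ _ hc])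
    rw [List.getD_eq_getElem _ _ hc] at h
    obtain ⟨h1, o1⟩ := el_gen hg (D.conjs[c].1.getD k [])
    obtain ⟨h2, o2⟩ := el_gen hg (D.conjs[c].2.getD k [])
    have hx := (good_spec hxg').1
    rw [mul_inv_eq_iff_eq_mul]
    refine Subtype.ext ?_
    rw [Subgroup.coe_mul, Subgroup.coe_mul, h1, h2, coe_ofWord hxg', ← wordElt_append, ← wordElt_append]
    exact wordElt_eq (by rw [List.all_append, hx, o1]; rfl) (by rw [List.all_append, o2, hx]; rfl) h

end Cfsg.Agent.Lib.Co2Mult
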