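import Cfsg.Agent.Lib.Co2Mult.Basic
import Cfsg.Agent.Lib.Co2Mult.OddData

/-!
# The five-part of the multiplier of the second Conway group
-/

set_option autoImplicit false
set_option maxRecDepth 20000

namespace Cfsg.Agent.Lib.Co2Mult

open Cfsg.Agent.Lib.Schur
open Cfsg.Agent.Lib.Schur.PcCollect (listVec)

theorem fiveGens_good : fiveGens.all good = true := by decide +kernel

theorem five_rels : relsOk five fiveGens = true := by decide +kernel

theorem five_sep : sepOk five fiveGens fiveSep = true := by decide +kernel

theorem five_conjs : conjsOk five fiveGens fiveX = true := by decide +kernel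

theorem five_cert : five.certOk (listVec 5) fiveEqs fiveCombos = true := by decide +kernel

theorem exists_five : ∃ P : Subgroup St, ¬ 5 ∣ P.index ∧ Fusion.KillsPart 5 P :=
  exists_part five (by show Nat.Prime 5; norm_num) (listVec 5) fiveGens fiveX fiveSep five_cert fiveGens_good five_rels
    five_sep five_conjs (by show ¬ 5 ^ 4 ∣ 42305421312000; norm_num)

end Cfsg.Agent.Lib.Co2Mult
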