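import Cfsg.Agent.Lib.Co2Mult.Basic
import Cfsg.Agent.Lib.Co2Mult.OddData

/-!
# The three-part of the multiplier of the second Conway group
-/

set_option autoImplicit false
set_option maxRecDepth 20000

namespace Cfsg.Agent.Lib.Co2Mult

open Cfsg.Agent.Lib.Schur
open Cfsg.Agent.Lib.Schur.PcCollect (listVec)

theorem threeGens_good : threeGens.all good = true := by decide +kernel

theorem three_rels : relsOk three threeGens = true := by decide +kernel

theorem three_sep : sepOk three threeGens threeSep = true := by decide +kernel

theorem three_conjs : conjsOk three threeGens threeX = true := by decide +kernel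

theorem three_cert : three.certOk (listVec 3) threeEqs threeCombos = true := by decide +kernel

theorem exists_three : ∃ P : Subgroup St, ¬ 3 ∣ P.index ∧ Fusion.KillsPart 3 P :=
  exists_part three (by show Nat.Prime 3; norm_num) (listVec 3) threeGens threeX threeSep three_cert threeGens_good three_rels
    three_sep three_conjs (by show ¬ 3 ^ 7 ∣ 42305421312000; norm_num)

end Cfsg.Agent.Lib.Co2Mult
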