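import Cfsg.Agent.Lib.Co2Mult.Two
import Cfsg.Agent.Lib.Co2Mult.Three
import Cfsg.Agent.Lib.Co2Mult.Five
import Cfsg.Agent.Lib.Schur.Universe

/-!
# The multiplier of the second Conway group
-/

set_option autoImplicit false
set_option maxRecDepth 20000

namespace Cfsg.Agent.Lib.Co2Mult

open Cfsg Cfsg.Agent.Lib.Schur

theorem seven_ok : cycOk 7 sevenWord = true := by decide +kernel

theorem eleven_ok : cycOk 11 elevenWord = true := by decide +kernel

theorem twentyThree_ok : cycOk 23 twentyThreeWord = true := by decide +kernel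

theorem prime_dvd {p : ℕ} (hp : p.Prime) (h : p ∣ 42305421312000) :
    p = 2 ∨ p = 3 ∨ p = 5 ∨ p = 7 ∨ p = 11 ∨ p = 23 := by
  rw [show (42305421312000 : ℕ) = 2 ^ 18 * 3 ^ 6 * 5 ^ 3 * 7 * 11 * 23 by norm_num] at h
  simp only [hp.dvd_mul] at h
  have one := fun {q : ℕ} (hq : q.Prime) (hd : p ∣ q) => (Nat.prime_dvd_prime_iff_eq hp hq).1 hd
  rcases h with ((((h | h) | h) | h) | h) | h
  · exact Or.inl (one Nat.prime_two (hp.dvd_of_dvd_pow h))
  · exact Or.inr (Or.inl (one Nat.prime_three (hp.dvd_of_dvd_pow h)))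
  · exact Or.inr (Or.inr (Or.inl (one (by norm_num) (hp.dvd_of_dvd_pow h))))
  · exact Or.inr (Or.inr (Or.inr (Or.inl (one (by norm_num) h))))
  · exact Or.inr (Or.inr (Or.inr (Or.inr (Or.inl (one (by norm_num) h)))))
  · exact Or.inr (Or.inr (Or.inr (Or.inr (Or.inr (one (by norm_num) h)))))

theorem multiplier_st : HasCyclicSchurMultiplier St 1 := by
  haveI : Finite St := Nat.finite_of_card_ne_zero (by rw [card_St]; norm_num)
  refine Fusion.hasTrivialMultiplier fun p hp hd => ?_
  rw [card_St] at hd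
  rcases prime_dvd hp hd with rfl | rfl | rfl | rfl | rfl | rfl
  · exact exists_two
  · exact exists_three
  · exact exists_five
  · exact exists_cyclic hp seven_ok (by norm_num)
  · exact exists_cyclic hp eleven_ok (by norm_num)
  · exact exists_cyclic hp twentyThree_ok (by norm_num)

theorem multiplier_co2 : HasCyclicSchurMultiplier ↥Spor.Co2 1 :=
  Universe.hasSchurMultiplier_lift co2Equiv.symm multiplier_st

end Cfsg.Agent.Lib.Co2Mult
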