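import Cfsg.Agent.Lib.Co3Model.Ops

/-!
# Words on packed coordinates

A vector with coordinates of absolute value less than 2048 is one number with twelve bits for each biased
coordinate, so that the kernel evaluates long words with arithmetic on numerals only.
-/

set_option autoImplicit false

namespace Cfsg.Agent.Lib.Co2Mult

open Cfsg.Agent.Lib.Golay
open Cfsg.Agent.Lib.Co3Model (Op appWord lab labMask labSum ent labMask_testBit)
open Cfsg.Agent.Lib.Computation (getW packW forceNat forceNat_eq getW_packW)

/-- The code of a vector. -/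
def enc (L : List ℤ) : ℕ := packW 12 (fun i => (ent L i + 2048).toNat) 24

/-- A vector in the range of the code. -/
def Fits (L : List ℤ) : Prop := L.length = 24 ∧ ∀ i < 24, -2048 < ent L i ∧ ent L i < 2048

/-- The check of the range. -/
def fitsB (L : List ℤ) : Bool :=
  Nat.beq L.length 24 && (List.range 24).all fun i => decide (-2048 < ent L i ∧ ent L i < 2048)

theorem fits_of_fitsB {L : List ℤ} (h : fitsB L = true) : Fits L := by
  simp only [fitsB, Bool.and_eq_true, Nat.beq_eq, List.all_eq_true, List.mem_range,
    decide_eq_true_eq] at h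
  exact h

theorem getW_enc {L : List ℤ} (h : Fits L) {i : ℕ} (hi : i < 24) :
    (getW 12 (enc L) i : ℤ) = ent L i + 2048 := by
  rw [enc, getW_packW (fun j hj => ?_) hi]
  · have := h.2 i hi
    omega
  · have := h.2 j hj
    omega

theorem enc_inj {L L' : List ℤ} (h : Fits L) (h' : Fits L') (he : enc L = enc L') : L = L' := by
  refine List.ext_getElem (by rw [h.1, h'.1]) fun i hi hi' => ?_
  have hlt : i < 24 := h.1 ▸ hi
  have h2 := getW_enc h hlt
  rw [he, getW_enc h' hlt] at h2
  have e1 : ent L i = L[i] := List.getD_eq_getElem _ _ hi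
  have e2 : ent L' i = L'[i] := List.getD_eq_getElem _ _ hi'
  omega

theorem packW_congr {w : ℕ} {f g : ℕ → ℕ} : ∀ {k : ℕ}, (∀ x < k, f x = g x) → packW w f k = packW w g k
  | 0, _ => rfl
  | k + 1, h => by
    rw [Computation.packW_succ, Computation.packW_succ, h k (Nat.lt_succ_self k),
      packW_congr fun x hx => h x (Nat.lt_succ_of_lt hx)]

/-- The label of an index, on numerals. -/
def labN (p i : ℕ) : ℕ := getW 3 p i

/-- A sum over an initial segment, by raw recursion. -/
def sumRange (f : ℕ → ℕ) (n : ℕ) : ℕ := Nat.rec 0 (fun i acc => Nat.add (f i) acc) n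

/-- A conjunction over an initial segment, by raw recursion. -/
def allRange (f : ℕ → Bool) (n : ℕ) : Bool := Nat.rec true (fun i acc => acc && f i) n

/-- The sum of the biased entries with a label. -/
def sumLab (p a t : ℕ) : ℕ :=
  sumRange (fun i => bif Nat.beq (labN p i) t then getW 12 a i else 0) 24

/-- The number of indices with a label. -/
def cntLab (p t : ℕ) : ℕ :=
  sumRange (fun i => bif Nat.beq (labN p i) t then 1 else 0) 24

/-- The positive image of a biased entry under a sextet map. -/
def half (p a i : ℕ) : ℕ := Nat.sub (Nat.div (sumLab p a (labN p i)) 2) (getW 12 a i)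

/-- The range is kept. -/
def sextOk (p a : ℕ) : Bool :=
  allRange (fun i => Nat.beq (cntLab p (labN p i)) 4 &&
    (Nat.blt (getW 12 a i) (Nat.div (sumLab p a (labN p i)) 2) && Nat.blt (half p a i) 4096)) 24

/-- A primitive on a code. -/
def stepP : Op → ℕ → Option ℕ
  | .perm _ ci, a => forceNat (packW 12 (fun i => getW 12 a (getW 5 ci i)) 24) some
  | .sign m, a => forceNat (packW 12 (fun i => bif m.testBit i then Nat.sub 4096 (getW 12 a i) else getW 12 a i) 24) some
  | .sext p, a => bif sextOk p a then
      forceNat (packW 12 (fun i => bif Nat.beq (labN p i) 0 then Nat.sub 4096 (half p a i) else half p a i) 24) some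
    else none

/-- A word on a code. -/
def runP : List Op → ℕ → Option ℕ
  | [], a => some a
  | o :: w, a =>
    match runP w a with
    | some b => stepP o b
    | none => none

theorem sumRange_eq (f : ℕ → ℕ) : ∀ n : ℕ, sumRange f n = ((List.range n).map f).sum
  | 0 => rfl
  | n + 1 => by
    show Nat.add (f n) (sumRange f n) = _
    rw [sumRange_eq f n, List.range_succ, List.map_append, List.sum_append]
    simp [Nat.add_comm]

theorem allRange_spec (f : ℕ → Bool) : ∀ n : ℕ, allRange f n = true → ∀ i < n, f i = true
  | 0, _, i, hi => absurd hi (Nat.not_lt_zero i)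
  | n + 1, h, i, hi => by
    change (allRange f n && f n) = true at h
    rw [Bool.and_eq_true] at h
    rcases Nat.lt_succ_iff_lt_or_eq.1 hi with hi | rfl
    · exact allRange_spec f n h.1 i hi
    · exact h.2

attribute [local irreducible] packW getW sumRange allRange

theorem labN_eq (p i : ℕ) : labN p i = lab p i := by
  rw [labN, lab, Computation.getW_eq, Nat.shiftRight_eq_div_pow]
  rfl

theorem labSum_eq (p t : ℕ) {L : List ℤ} (h : Fits L) (hc : cntLab p t = 4) :
    (sumLab p (enc L) t : ℤ) = labSum p t L + 4 * 2048 := by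
  rw [cntLab, sumRange_eq] at hc
  rw [sumLab, sumRange_eq, labSum]
  have key : ∀ l : List ℕ, (∀ i ∈ l, i < 24) →
      (((l.map fun i => bif Nat.beq (labN p i) t then getW 12 (enc L) i else 0).sum : ℕ) : ℤ) =
        (l.map fun i => if lab p i = t then ent L i else 0).sum +
          ((l.map fun i => bif Nat.beq (labN p i) t then 1 else 0).sum : ℕ) * 2048 := by
    intro l
    induction l with
    | nil => simp
    | cons i l ih =>
      intro hl
      simp only [List.map_cons, List.sum_cons, Nat.cast_add, ih fun j hj => hl j (List.mem_cons_of_mem _ hj)]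
      cases hb : Nat.beq (labN p i) t
      · rw [if_neg (by rw [← labN_eq]; exact Nat.ne_of_beq_eq_false hb)]
        simp only [cond_false, Nat.cast_zero]
        ring
      · rw [if_pos (by rw [← labN_eq]; exact Nat.eq_of_beq_eq_true hb)]
        simp only [cond_true, getW_enc h (hl i List.mem_cons_self), Nat.cast_one]
        ring
  rw [key _ fun i hi => List.mem_range.1 hi, hc]
  norm_num

theorem step_finish {f : ℕ → ℕ} {g : ℕ → ℤ}
    (h : ∀ i < 24, (f i : ℤ) = g i + 2048 ∧ -2048 < g i ∧ g i < 2048) :
    Fits ((List.range 24).map g) ∧ packW 12 f 24 = enc ((List.range 24).map g) := by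
  have he : ∀ i < 24, ent ((List.range 24).map g) i = g i := fun i hi => by
    simp [ent, List.getD_eq_getElem?_getD, hi]
  refine ⟨⟨by simp, fun i hi => by rw [he i hi]; exact (h i hi).2⟩, packW_congr fun i hi => ?_⟩
  rw [he i hi]
  have := h i hi
  omega

theorem stepP_spec {o : Op} (ho : o.ok = true) {L : List ℤ} (hL : Fits L) {b : ℕ}
    (h : stepP o (enc L) = some b) : Fits (o.app L) ∧ b = enc (o.app L) := by
  cases o with
  | perm c ci =>
    simp only [Op.ok, Bool.and_eq_true] at ho
    simp only [stepP, forceNat_eq, Option.some.injEq] at h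
    rw [← h]
    refine step_finish fun i hi => ?_
    have hlt := getW_lt ho.1.2 hi
    exact ⟨getW_enc hL hlt, hL.2 _ hlt⟩
  | sign m =>
    simp only [stepP, forceNat_eq, Option.some.injEq] at h
    rw [← h]
    refine step_finish fun i hi => ?_
    have h1 := getW_enc hL hi
    have h2 := hL.2 i hi
    cases hb : m.testBit i
    · simp only [cond_false, Bool.false_eq_true, if_false]
      exact ⟨h1, h2⟩
    · simp only [cond_true, if_true]
      have h3 : ((Nat.sub 4096 (getW 12 (enc L) i) : ℕ) : ℤ) = 4096 - (getW 12 (enc L) i : ℤ) := by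
        show ((4096 - getW 12 (enc L) i : ℕ) : ℤ) = _
        omega
      exact ⟨by omega, by omega, by omega⟩
  | sext p =>
    simp only [stepP, forceNat_eq] at h
    cases hok : sextOk p (enc L)
    · rw [hok] at h
      simp at h
    rw [hok, cond_true, Option.some.injEq] at h
    rw [← h]
    refine step_finish fun i hi => ?_
    have hg := allRange_spec _ 24 hok i hi
    simp only [Bool.and_eq_true, Nat.beq_eq, Nat.blt_eq] at hg
    obtain ⟨hc, hlt, hb⟩ := hg
    have h1 := getW_enc hL hi
    have h2 := labSum_eq p _ hL hc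
    rw [labN_eq] at h2 hlt hc
    change getW 12 (enc L) i < sumLab p (enc L) (lab p i) / 2 at hlt
    have h3 : half p (enc L) i = sumLab p (enc L) (lab p i) / 2 - getW 12 (enc L) i := by
      rw [half, labN_eq]
      rfl
    rw [h3] at hb ⊢
    rw [labN_eq]
    cases h0 : Nat.beq (lab p i) 0
    · rw [if_neg (Nat.ne_of_beq_eq_false h0)]
      simp only [cond_false]
      exact ⟨by omega, by omega, by omega⟩
    · rw [if_pos (Nat.eq_of_beq_eq_true h0)]
      simp only [cond_true]
      have h4 : ∀ x : ℕ, x < 4096 → ((Nat.sub 4096 x : ℕ) : ℤ) = 4096 - (x : ℤ) := fun x hx => by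
        show ((4096 - x : ℕ) : ℤ) = _
        omega
      rw [h4 _ hb]
      exact ⟨by omega, by omega, by omega⟩

theorem runP_spec : ∀ {w : List Op}, w.all Op.ok = true → ∀ {L : List ℤ}, Fits L → ∀ {b : ℕ},
    runP w (enc L) = some b → Fits (appWord w L) ∧ b = enc (appWord w L)
  | [], _, L, hL, b, h => ⟨hL, (Option.some.inj h).symm⟩
  | o :: w, ho, L, hL, b, h => by
    rw [List.all_cons, Bool.and_eq_true] at ho
    rw [runP] at h
    cases hr : runP w (enc L) with
    | none =>
      rw [hr] at h
      simp at h
    | some a =>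
      obtain ⟨h1, rfl⟩ := runP_spec ho.2 hL hr
      rw [hr] at h
      exact stepP_spec ho.1 h1 h

end Cfsg.Agent.Lib.Co2Mult
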