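import Cfsg.Agent.Lib.Co2Mult.Basic
import Cfsg.Agent.Lib.Co2Mult.TwoData

/-!
# The two-part of the multiplier of the second Conway group
-/

set_option autoImplicit false
set_option maxRecDepth 20000

namespace Cfsg.Agent.Lib.Co2Mult

open Cfsg.Agent.Lib.Schur
open Cfsg.Agent.Lib.Schur.PcCollect (maskVec)

theorem twoGens_good : twoGens.all good = true := by decide +kernel

theorem two_rels : relsOk two twoGens = true := by decide +kernel

theorem two_sep : sepOk two twoGens twoSep = true := by decide +kernel

theorem two_conjs : conjsOk two twoGens twoX = true := by decide +kernel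

theorem two_cert : two.certOk maskVec twoEqs twoCombos = true := by decide +kernel

theorem exists_two : ∃ P : Subgroup St, ¬ 2 ∣ P.index ∧ Fusion.KillsPart 2 P :=
  exists_part two Nat.prime_two maskVec twoGens twoX twoSep two_cert twoGens_good two_rels two_sep two_conjs
    (by show ¬ 2 ^ 19 ∣ 42305421312000; norm_num)

end Cfsg.Agent.Lib.Co2Mult
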